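import Groth.Agent.FinHomLib.HomGrp
import Groth.Agent.RepCoverLib.Main
import Groth.Prelude.Def_WeilRes
import Groth.Prelude.Def_Flat

/-!
# Weil restriction along a finite locally free morphism: charts and existence
-/

set_option autoImplicit false
set_option linter.style.haveILetI false
set_option backward.isDefEq.respectTransparency false

noncomputable section

universe u

open CategoryTheory CategoryTheory.Limits MonoidalCategory CartesianMonoidalCategory AlgebraicGeometry Opposite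
open Groth.Agent.FinHom
open TopologicalSpace (Opens)

namespace WeilExistLib

variable {S : Scheme.{u}}

/-- A chart of an affine scheme lying over an affine open. -/
theorem exists_chart' {R : Type u} [CommRing R] (j : Spec (CommRingCat.of R) ⟶ S) (Y : Over S)
    [IsAffine (pullback Y.hom j)] :
    ∃ (C : Type u) (_ : CommRing C) (_ : Algebra R C) (a : Spec (CommRingCat.of C) ⟶ Y.left),
      IsPullback a (Spec.map (CommRingCat.ofHom (algebraMap R C))) Y.hom j := by
  let Q := pullback Y.hom j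
  obtain ⟨ρ, hρ⟩ := Spec.map_surjective (Q.isoSpec.inv ≫ pullback.snd Y.hom j)
  letI : Algebra R Γ(Q, ⊤) := ρ.hom.toAlgebra
  refine ⟨Γ(Q, ⊤), inferInstance, inferInstance, Q.isoSpec.inv ≫ pullback.fst Y.hom j, ?_⟩
  exact (IsPullback.of_hasPullback Y.hom j).of_iso Q.isoSpec (Iso.refl _) (Iso.refl _) (Iso.refl _)
    (by simp [Q]) (by
      rw [Iso.refl_hom, Category.comp_id, RingHom.algebraMap_toAlgebra, CommRingCat.ofHom_hom]
      exact (by rw [hρ, Iso.hom_inv_id_assoc] : Q.isoSpec.hom ≫ Spec.map ρ = pullback.snd Y.hom j).symm)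
    (by simp) (by simp)

/-- Morphisms to an affine scheme lying over an affine open, out of a finite locally free surjective scheme,
are representable on all of the base. -/
theorem exists_homScheme_open (X Y : Over S) [IsFinite X.hom] [Flat X.hom] [LocallyOfFinitePresentation X.hom]
    [Surjective X.hom] [IsAffine Y.left] {U : S.Opens} (hU : IsAffineOpen U)
    (hY : Set.range Y.hom ⊆ (U : Set S)) :
    ∃ (M : Over S) (ev : X ⊗ M ⟶ Y), ∀ (T : Over S) (φ : X ⊗ T ⟶ Y), ∃! v : T ⟶ M, (X ◁ v) ≫ ev = φ := by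
  let j : Spec (CommRingCat.of Γ(S, U)) ⟶ S := hU.fromSpec
  have hj : Set.range j = (U : Set S) := hU.range_fromSpec
  haveI : IsIso (pullback.fst Y.hom j) := by
    haveI : Surjective (pullback.fst Y.hom j) := ⟨fun y => by
      obtain ⟨s, hs⟩ := hj.symm.subset (hY ⟨y, rfl⟩)
      obtain ⟨z, hz, -⟩ := Scheme.Pullback.exists_preimage_pullback (f := Y.hom) (g := j) y s hs.symm
      exact ⟨z, hz⟩⟩
    haveI : IsOpenImmersion (pullback.fst Y.hom j) := MorphismProperty.pullback_fst _ _ inferInstance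
    haveI : Epi (pullback.fst Y.hom j).base :=
      (TopCat.epi_iff_surjective _).2 (pullback.fst Y.hom j).surjective
    exact IsOpenImmersion.isIso _
  haveI : IsAffine (pullback Y.hom j) := IsAffine.of_isIso (pullback.fst Y.hom j)
  obtain ⟨B, _, _, a, hX⟩ := exists_chart j X
  obtain ⟨C, _, _, c, hYc⟩ := exists_chart' j Y
  obtain ⟨hfin, hproj⟩ := module_props hX
  haveI := hfin
  haveI := hproj
  obtain ⟨W, _, _, ξ, -, -, hrep⟩ := exists_affine_rep j hX hYc
  refine ⟨tst j W, ξ, fun T φ => ?_⟩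
  have hT : Set.range T.hom ⊆ ((Scheme.Hom.opensRange j : S.Opens) : Set S) := by
    rintro _ ⟨t, rfl⟩
    obtain ⟨x, hx⟩ := X.hom.surjective (T.hom t)
    obtain ⟨z, -, hz⟩ := Scheme.Pullback.exists_preimage_pullback (f := X.hom) (g := T.hom) x t hx
    have h1 : T.hom t = Y.hom (φ.left z) := by
      rw [← Scheme.Hom.comp_apply φ.left, Over.w φ]
      show T.hom t = (pullback.fst X.hom T.hom ≫ X.hom) z
      rw [pullback.condition, Scheme.Hom.comp_apply, hz]
    show T.hom t ∈ Set.range j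
    rw [hj, h1]
    exact hY ⟨_, rfl⟩
  obtain ⟨v, hv⟩ := (hrep.bij T hT).2 φ
  exact ⟨v, hv, fun v' hv' => (hrep.bij T hT).1 (hv'.trans hv.symm)⟩

variable (X Y : Over S) (π : Y ⟶ X)

/-- The functor of morphisms out of `X ⊗ T` over `X`. -/
def sectFun : (Over S)ᵒᵖ ⥤ Type u where
  obj T := {φ : X ⊗ T.unop ⟶ Y // φ ≫ π = fst X T.unop}
  map g := TypeCat.ofHom fun φ => ⟨(X ◁ g.unop) ≫ φ.1, by rw [Category.assoc, φ.2, whiskerLeft_fst]⟩
  map_id T := by
    refine ConcreteCategory.hom_ext _ _ fun φ => Subtype.ext ?_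
    exact (show (X ◁ 𝟙 T.unop) ≫ φ.1 = φ.1 by rw [MonoidalCategory.whiskerLeft_id, Category.id_comp])
  map_comp g g' := by
    refine ConcreteCategory.hom_ext _ _ fun φ => Subtype.ext ?_
    exact (show (X ◁ (g'.unop ≫ g.unop)) ≫ φ.1 = (X ◁ g'.unop) ≫ (X ◁ g.unop) ≫ φ.1 by
      rw [MonoidalCategory.whiskerLeft_comp, Category.assoc])

theorem sectFun_map {T T' : Over S} (g : T' ⟶ T) (φ : (sectFun X Y π).obj (op T)) :
    ((sectFun X Y π).map g.op φ).1 = (X ◁ g) ≫ φ.1 := rfl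

theorem isZarSheaf_sectFun : IsZarSheaf (sectFun X Y π) := by
  constructor
  · intro T I T' g hg hc a b h
    exact Subtype.ext ((isZarSheaf_homFun X Y).ext g hg hc a.1 b.1 fun i => congrArg Subtype.val (h i))
  · intro T I T' g hg hc a ha
    obtain ⟨b, hb⟩ := (isZarSheaf_homFun X Y).glue g hg hc (fun i => (a i).1)
      fun i j Z p q hpq => congrArg Subtype.val (ha i j Z p q hpq)
    refine ⟨⟨b, (isZarSheaf_homFun X X).ext g hg hc _ _ fun i => ?_⟩, fun i => Subtype.ext (hb i)⟩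
    show (X ◁ g i) ≫ b ≫ π = (X ◁ g i) ≫ fst X T
    rw [whiskerLeft_fst, ← Category.assoc, show (X ◁ g i) ≫ b = (a i).1 from hb i]
    exact (a i).2

/-- Sections into an affine scheme over an affine open are representable. -/
theorem exists_sect_rep [IsFinite X.hom] [Flat X.hom] [LocallyOfFinitePresentation X.hom] [Surjective X.hom]
    [IsAffine Y.left] {U : S.Opens} (hU : IsAffineOpen U) (hY : Set.range Y.hom ⊆ (U : Set S)) :
    ∃ (A : Over S) (ξ : X ⊗ A ⟶ Y), ξ ≫ π = fst X A ∧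
      ∀ (T : Over S) (φ : X ⊗ T ⟶ Y), φ ≫ π = fst X T → ∃! v : T ⟶ A, (X ◁ v) ≫ ξ = φ := by
  obtain ⟨M, ev, hM⟩ := exists_homScheme_open X Y hU hY
  obtain ⟨N, ev', hN, -, -, hNu⟩ := exists_homScheme X X
  haveI := hN
  obtain ⟨a, ha, -⟩ := hNu M (ev ≫ π)
  obtain ⟨b, hb, -⟩ := hNu M (fst X M)
  obtain ⟨A, i, hi, -, hab, huni⟩ := exists_equalizer a b
  have hiff : ∀ {T : Over S} (v : T ⟶ M), ((X ◁ v) ≫ ev) ≫ π = fst X T ↔ v ≫ a = v ≫ b := by
    intro T v
    refine ⟨fun h => (hNu T (fst X T)).unique ?_ ?_, fun h => ?_⟩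
    · show (X ◁ (v ≫ a)) ≫ ev' = _
      rw [whiskerLeft_comp, Category.assoc, ha, ← Category.assoc, h]
    · show (X ◁ (v ≫ b)) ≫ ev' = _
      rw [whiskerLeft_comp, Category.assoc, hb, whiskerLeft_fst]
    · rw [Category.assoc, ← ha, ← Category.assoc, ← whiskerLeft_comp, h, whiskerLeft_comp, Category.assoc, hb,
        whiskerLeft_fst]
  refine ⟨A, (X ◁ i) ≫ ev, (hiff i).2 hab, fun T φ hφ => ?_⟩
  obtain ⟨v, hv, hvu⟩ := hM T φ
  subst hv
  obtain ⟨w, hw, hwu⟩ := huni T v ((hiff v).1 hφ)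
  refine ⟨w, ?_, fun w' hw' => hwu w' (hvu _ ?_)⟩
  · show (X ◁ w) ≫ (X ◁ i) ≫ ev = _
    rw [← Category.assoc, ← whiskerLeft_comp, hw]
  · show (X ◁ (w' ≫ i)) ≫ ev = _
    rw [whiskerLeft_comp, Category.assoc]
    exact hw'

/-- Sections over a universally homeomorphic finite locally free scheme are representable. -/
theorem exists_rep_sectFun [IsFinite X.hom] [Flat X.hom] [LocallyOfFinitePresentation X.hom]
    (hX : FlatMor.IsUnivHomeo X.hom) :
    ∃ A : Over S, Nonempty ((sectFun X Y π).RepresentableBy A) := by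
  have hbc : ∀ T : Over S, IsHomeomorph (pullback.snd X.hom T.hom) := fun T =>
    hX _ _ _ (IsPullback.of_hasPullback X.hom T.hom).flip
  haveI : Surjective X.hom := ⟨(hX _ _ _ (IsPullback.id_horiz X.hom).flip).surjective⟩
  let ι : Type u := {p : S.Opens × Y.left.Opens // IsAffineOpen p.1 ∧ IsAffineOpen p.2 ∧ p.2 ≤ Y.hom ⁻¹ᵁ p.1}
  let YV : ι → Over S := fun p => Over.mk (p.1.2.ι ≫ Y.hom)
  let k : ∀ p, YV p ⟶ Y := fun p => Over.homMk p.1.2.ι rfl
  haveI : ∀ p, IsOpenImmersion (k p).left := fun p => inferInstanceAs (IsOpenImmersion p.1.2.ι)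
  haveI : ∀ p, Mono (k p) := fun p => Over.mono_of_mono_left _
  have hrep : ∀ p : ι, ∃ (A : Over S) (ξ : X ⊗ A ⟶ YV p), ξ ≫ k p ≫ π = fst X A ∧
      ∀ (T : Over S) (φ : X ⊗ T ⟶ YV p), φ ≫ k p ≫ π = fst X T → ∃! v : T ⟶ A, (X ◁ v) ≫ ξ = φ := fun p => by
    haveI : IsAffine (YV p).left := p.2.2.1
    refine exists_sect_rep X (YV p) (k p ≫ π) p.2.1 ?_
    rintro _ ⟨y, rfl⟩
    exact p.2.2.2 y.2
  choose A ξ hξ hA using hrep
  let Ξ : ∀ p, (sectFun X Y π).obj (op (A p)) := fun p =>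
    ⟨ξ p ≫ k p, by rw [Category.assoc]; exact hξ p⟩
  let bad : ι → ∀ T : Over S, (sectFun X Y π).obj (op T) → Set T.left := fun p T z =>
    pullback.snd X.hom T.hom '' {x | z.1.left x ∉ p.1.2}
  let O : ι → ∀ T : Over S, (sectFun X Y π).obj (op T) → T.left.Opens := fun p T z =>
    ⟨(bad p T z)ᶜ, ((hbc T).isClosedMap _
      ((p.1.2.isOpen.preimage z.1.left.continuous).isClosed_compl)).isOpen_compl⟩
  have hmem : ∀ p (T : Over S) (z : (sectFun X Y π).obj (op T)) (t : T.left),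
      t ∈ O p T z ↔ ∀ x, pullback.snd X.hom T.hom x = t → z.1.left x ∈ p.1.2 := fun p T z t => by
    show t ∉ bad p T z ↔ _
    simp only [bad, Set.mem_image, Set.mem_ofPred_eq, not_exists, not_and]
    exact forall_congr' fun x => ⟨fun h hx => not_not.1 fun h' => h h' hx, fun h h' hx => h' (h hx)⟩
  refine RepCoverLib.exists_rep (Φ := sectFun X Y π) (isZarSheaf_sectFun X Y π) A Ξ ?_ O ?_ ?_ ?_
  · intro p T b b' h
    have h1 : (X ◁ b) ≫ ξ p ≫ k p = (X ◁ b') ≫ ξ p ≫ k p := congrArg Subtype.val h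
    rw [← Category.assoc, ← Category.assoc, cancel_mono] at h1
    exact (hA p T _ (by rw [Category.assoc, hξ, whiskerLeft_fst])).unique rfl h1.symm
  · intro p T z
    let T₀ : Over S := Over.mk ((O p T z).ι ≫ T.hom)
    let g : T₀ ⟶ T := RepCoverLib.oo (O p T z)
    have hr : Set.range ((X ◁ g) ≫ z.1).left ⊆ Set.range (k p).left := by
      rintro _ ⟨x, rfl⟩
      rw [show Set.range (k p).left = Set.range p.1.2.ι from rfl, Scheme.Opens.range_ι]
      show ((X ◁ g).left ≫ z.1.left) x ∈ _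
      rw [Scheme.Hom.comp_apply]
      refine (hmem p T z _).1 (pullback.snd X.hom T₀.hom x).2 _ ?_
      exact (Scheme.Hom.comp_apply _ _ _).symm.trans
        ((congrArg (fun m => m x) (isPullback_whiskerLeft X g).w).trans (Scheme.Hom.comp_apply _ _ _))
    let ψ : X ⊗ T₀ ⟶ YV p := Over.homMk (IsOpenImmersion.lift (k p).left ((X ◁ g) ≫ z.1).left hr) (by
      rw [← Over.w (k p), IsOpenImmersion.lift_fac_assoc]
      exact Over.w _)
    have hψ : ψ ≫ k p = (X ◁ g) ≫ z.1 := Over.OverMorphism.ext (IsOpenImmersion.lift_fac _ _ _)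
    obtain ⟨v, hv, -⟩ := hA p T₀ ψ (by rw [← Category.assoc, hψ, Category.assoc, z.2, whiskerLeft_fst])
    refine ⟨v, Subtype.ext ?_⟩
    show (X ◁ v) ≫ ξ p ≫ k p = (X ◁ g) ≫ z.1
    rw [← Category.assoc, hv, hψ]
  · rintro p T z T' g b h _ ⟨t', rfl⟩
    refine (hmem p T z _).2 fun x hx => ?_
    obtain ⟨x', hx', -⟩ := Scheme.exists_preimage_of_isPullback (isPullback_whiskerLeft X g) x t' hx
    rw [← hx', ← Scheme.Hom.comp_apply, ← Over.comp_left,
      ← show (X ◁ b) ≫ ξ p ≫ k p = (X ◁ g) ≫ z.1 from congrArg Subtype.val h, ← Category.assoc, Over.comp_left,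
      Scheme.Hom.comp_apply]
    exact (((X ◁ b) ≫ ξ p).left x').2
  · intro T z t
    obtain ⟨x, hx⟩ := (hbc T).surjective t
    obtain ⟨U, hU, hyU, -⟩ := exists_isAffineOpen_mem_and_subset (X := S) (x := Y.hom (z.1.left x)) (U := ⊤) trivial
    obtain ⟨V, hV, hyV, hVU⟩ := exists_isAffineOpen_mem_and_subset (X := Y.left) (x := z.1.left x) (U := Y.hom ⁻¹ᵁ U) hyU
    refine ⟨⟨(U, V), hU, hV, hVU⟩, (hmem _ T z t).2 fun x' hx' => ?_⟩
    obtain rfl : x' = x := (hbc T).injective (hx'.trans hx.symm)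
    exact hyV

end WeilExistLib

end
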